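import Groth.Agent.ShriekBC11.Descent
import Groth.Agent.S7409
import Groth.Agent.P1Sym.Finite

/-!
# Base change for direct images with proper support
-/

set_option autoImplicit false

universe u

open CategoryTheory CategoryTheory.Limits AlgebraicGeometry Opposite

namespace Groth.Agent.ShriekBC11

set_option backward.isDefEq.respectTransparency.types false

open EtExcision

theorem bcGood_congr {X Y : Scheme.{u}} {f f' : X ⟶ Y} [LocallyOfFiniteType f] [LocallyOfFiniteType f'] (e : f = f')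
    (h : BCGood f) : BCGood f' := by
  subst e
  exact h

/-- a proper surjection onto an open piece, pulled back to something landing in the piece, is proper -/
theorem isProper_of_range {Uc X K : Scheme.{u}} {U : X.Opens} (π : Uc ⟶ U.toScheme) [IsProper π] {l : K ⟶ X}
    (hl : ∀ x : K, l.base x ∈ U) {P : Scheme.{u}} {fst : P ⟶ K} {snd : P ⟶ Uc}
    (H : IsPullback fst snd l (π ≫ U.ι)) : IsProper fst := by
  have hl' : Set.range l.base ⊆ Set.range U.ι.base := by
    rintro _ ⟨x, rfl⟩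
    rw [Scheme.Opens.range_ι]
    exact hl x
  let l' := IsOpenImmersion.lift U.ι l hl'
  have e : l' ≫ U.ι = l := IsOpenImmersion.lift_fac _ _ _
  rw [← e] at H
  have H' : IsPullback fst snd l' π := by
    refine IsPullback.of_isLimit' ⟨(cancel_mono U.ι).1 (by rw [Category.assoc, Category.assoc]; exact H.w)⟩
      (PullbackCone.IsLimit.mk _ (fun s => H.lift s.fst s.snd (by simp only [← Category.assoc, s.condition]))
        (fun s => H.lift_fst _ _ _) (fun s => H.lift_snd _ _ _)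
        (fun s m h1 h2 => H.hom_ext (h1.trans (H.lift_fst _ _ _).symm) (h2.trans (H.lift_snd _ _ _).symm)))
  exact MorphismProperty.of_isPullback H'.flip inferInstance

/-- separated finite type morphisms into an affine open are good -/
theorem bcGood_of_cover {X Y : Scheme.{u}} (f : X ⟶ Y) [IsSeparated f] [LocallyOfFiniteType f] (U : X.Opens)
    (hU : IsCompact (U : Set X)) (W : Y.Opens) (hW : IsAffineOpen W) (hUW : ∀ x ∈ U, f.base x ∈ W) :
    ∃ (Uc : Scheme.{u}) (π : Uc ⟶ U.toScheme) (_ : IsProper π) (_ : Surjective π)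
      (_ : LocallyOfFiniteType ((π ≫ U.ι) ≫ f)) (_ : IsSeparated (π ≫ U.ι)),
      BCGood ((π ≫ U.ι) ≫ f) := by
  have hr : Set.range (U.ι ≫ f).base ⊆ Set.range W.ι.base := by
    rintro _ ⟨x, rfl⟩
    rw [Scheme.Opens.range_ι, Scheme.Hom.comp_apply]
    exact hUW _ x.2
  let fU := IsOpenImmersion.lift W.ι (U.ι ≫ f) hr
  have e : fU ≫ W.ι = U.ι ≫ f := IsOpenImmersion.lift_fac _ _ _
  haveI : IsAffine W.toScheme := hW
  haveI : CompactSpace U.toScheme := isCompact_iff_compactSpace.1 hU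
  haveI : IsSeparated (fU ≫ W.ι) := by rw [e]; infer_instance
  haveI : LocallyOfFiniteType (fU ≫ W.ι) := by rw [e]; infer_instance
  haveI : IsSeparated fU := IsSeparated.of_comp fU W.ι
  haveI : LocallyOfFiniteType fU := locallyOfFiniteType_of_comp fU W.ι
  haveI : QuasiCompact fU := (quasiCompact_iff_compactSpace fU).2 inferInstance
  obtain ⟨n, Uc, π, j, hj, he, hπ, hπs⟩ := S7409.result fU
  haveI := P1Sym.isProper_toBase n W.toScheme
  let c := j.liftCoborder
  let o := j.coborderRange.ι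
  let b := CohB1.ProjSpaceOver.toBase n W.toScheme
  have h : BCGood (c ≫ o ≫ b ≫ W.ι) :=
    bcGood_comp c (o ≫ b ≫ W.ι) (bcGood_proper c)
      (bcGood_comp o (b ≫ W.ι) (bcGood_openImmersion o)
        (bcGood_comp b W.ι (bcGood_proper b) (bcGood_openImmersion W.ι)))
  have e2 : c ≫ o ≫ b ≫ W.ι = (π ≫ U.ι) ≫ f := by
    rw [Category.assoc, ← e, ← Category.assoc π fU W.ι, ← he]
    simp only [c, o, b, Category.assoc, Scheme.Hom.liftCoborder_ι_assoc]
  haveI : LocallyOfFiniteType ((π ≫ U.ι) ≫ f) := inferInstance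
  exact ⟨Uc, π, hπ, hπs, inferInstance, inferInstance, bcGood_congr e2 h⟩

/-- base change for separated morphisms locally of finite type -/
theorem bcGood {X Y : Scheme.{u}} (f : X ⟶ Y) [IsSeparated f] [LocallyOfFiniteType f] : BCGood f := by
  intro X' Y' g f' g' _ _ H F G a ha Ω _ _ η'
  refine θψ_bijective_of H ha rfl fun x => ?_
  obtain ⟨V₀, v₀, t₀, rfl⟩ := (Scheme.pointSmallEtale η').toPresheafFiber_jointly_surjective x
  let y' := (v₀.left : Spec (CommRingCat.of Ω) ⟶ V₀.left).base (default : Spec (CommRingCat.of Ω))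
  obtain ⟨W, hW, hyW, -⟩ := exists_isAffineOpen_mem_and_subset (U := (⊤ : Y.Opens))
    (x := g.base (V₀.hom.base y')) trivial
  obtain ⟨Q, hQ, hyQ, hQW⟩ := exists_isAffineOpen_mem_and_subset (U := V₀.hom ⁻¹ᵁ (g ⁻¹ᵁ W)) (x := y') hyW
  obtain ⟨o, ho⟩ := exists_openι hyQ
  obtain ⟨v, hv, -⟩ := EtFound.exists_lift_point (openι V₀ Q) v₀ o ho
  let V : Y'.Etale := openE V₀ Q
  let t : ((shrF f').obj G).obj.obj (op V) := ((shrF f').obj G).obj.map (openι V₀ Q).op t₀
  have hx : (Scheme.pointSmallEtale η').toPresheafFiber V v ((shrF f').obj G).obj t =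
      (Scheme.pointSmallEtale η').toPresheafFiber V₀ v₀ ((shrF f').obj G).obj t₀ := by
    rw [← hv]
    exact (Scheme.pointSmallEtale η').toPresheafFiber_w_apply (openι V₀ Q) v ((shrF f').obj G).obj t₀
  -- the support lies in a quasi-compact open piece
  obtain ⟨hC, hP⟩ := isProperOver_sectSupp_mem f' G V t
  let i := (Scheme.IdealSheafData.vanishingIdeal ⟨_, hC⟩).subschemeι
  have hir : Set.range i.base = EtShriek.sectSupp G ((EtCoh.bc f').obj V) t.1 := QCoh.range_vanishing hC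
  haveI : IsAffine V.left := hQ
  haveI : IsProper (i ≫ EtShriek.prV f' V) := hP
  haveI : CompactSpace ↥((Scheme.IdealSheafData.vanishingIdeal ⟨_, hC⟩).subscheme : Scheme.{u}) :=
    QuasiCompact.compactSpace_of_compactSpace (i ≫ EtShriek.prV f' V)
  let pX : ((EtCoh.bc f').obj V).left ⟶ X := ((EtCoh.bc f').obj V).hom ≫ g'
  have hWim : ∀ y : ((EtCoh.bc f').obj V).left, f.base (pX.base y) ∈ W := fun y => by
    have e : pX ≫ f = EtShriek.prV f' V ≫ Q.ι ≫ V₀.hom ≫ g := by
      show (pullback.snd V.hom f' ≫ g') ≫ f = pullback.fst V.hom f' ≫ _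
      rw [Category.assoc, H.w, ← Category.assoc, ← pullback.condition, Category.assoc]
      rfl
    have h1 := congrArg (fun q : ((EtCoh.bc f').obj V).left ⟶ Y => q.base y) e
    refine (congrArg (fun q => q ∈ W) ((Scheme.Hom.comp_apply _ _ _).symm.trans h1)).mpr ?_
    exact hQW (((EtShriek.prV f' V).base y : Q.toScheme)).2
  have hK : IsCompact (pX.base '' EtShriek.sectSupp G ((EtCoh.bc f').obj V) t.1) := by
    rw [← hir]
    exact (isCompact_range i.continuous).image pX.continuous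
  obtain ⟨U, hU, hKU, hUW⟩ : ∃ U : X.Opens, IsCompact (U : Set X) ∧
      pX.base '' EtShriek.sectSupp G ((EtCoh.bc f').obj V) t.1 ⊆ U ∧ ∀ x ∈ U, f.base x ∈ W := by
    have hcov : ∀ k : ↥(pX.base '' EtShriek.sectSupp G ((EtCoh.bc f').obj V) t.1),
        ∃ A : X.Opens, IsAffineOpen A ∧ (k : X) ∈ A ∧ ∀ x ∈ A, f.base x ∈ W := by
      rintro ⟨_, y, -, rfl⟩
      obtain ⟨A, hA, hyA, hAW⟩ := exists_isAffineOpen_mem_and_subset (U := f ⁻¹ᵁ W) (x := pX.base y) (hWim y)
      exact ⟨A, hA, hyA, hAW⟩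
    choose A hA hkA hAW using hcov
    obtain ⟨s, hs⟩ := hK.elim_finite_subcover (fun k => (A k : Set X)) (fun k => (A k).2)
      (fun k hk => Set.mem_iUnion.2 ⟨⟨k, hk⟩, hkA ⟨k, hk⟩⟩)
    refine ⟨⟨⋃ k ∈ s, (A k : Set X), isOpen_biUnion fun k _ => (A k).2⟩,
      s.finite_toSet.isCompact_biUnion fun k _ => (hA k).isCompact, hs, fun x hx => ?_⟩
    obtain ⟨k, -, hk⟩ := Set.mem_iUnion₂.1 hx
    exact hAW k x hk
  obtain ⟨Uc, π, hπ, hπs, _, _, hgood⟩ := bcGood_of_cover f U hU W hW hUW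
  let r : Uc ⟶ X := π ≫ U.ι
  let r' : pullback r g' ⟶ X' := pullback.snd r g'
  let gc : pullback r g' ⟶ Uc := pullback.fst r g'
  have Hr : IsPullback gc r' r g' := IsPullback.of_hasPullback r g'
  have Hc : IsPullback gc (r' ≫ f') (r ≫ f) g := Hr.paste_vert H
  have wr : r' ≫ g' = gc ≫ r := Hr.w.symm
  let Gc : EtCoh.Ab (pullback r g') := (EtCoh.pull r').obj G
  let ac := adjLift wr a
  have hac : PD ac := pd_adjLift wr ha
  -- the pulled back section
  let ut := unitSec r' G ((EtCoh.bc f').obj V) t.1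
  have hut : EtShriek.sectSupp Gc _ ut ⊆
      ⇑(EtShriek.prV r' ((EtCoh.bc f').obj V)) ⁻¹' EtShriek.sectSupp G ((EtCoh.bc f').obj V) t.1 :=
    sectSupp_push_subset ((EtCoh.pullPushAdj r').unit.app G) _ t.1
  have hinner : ut ∈ EtShriek.shriekSubgroup r' Gc ((EtCoh.bc f').obj V) := by
    refine AddSubgroup.subset_closure ((shriekPred_iff r' Gc _ ut).2 ?_)
    let p := EtShriek.prV r' ((EtCoh.bc f').obj V)
    have hp : IsProper (pullback.fst i p) := by
      refine isProper_of_range (U := U) π (l := i ≫ pX) (fun k => ?_)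
        ((IsPullback.of_hasPullback i p).flip.paste_horiz
          ((IsPullback.of_hasPullback ((EtCoh.bc f').obj V).hom r').paste_vert Hr.flip).flip).flip
      · exact (congrArg (fun q => q ∈ U) (Scheme.Hom.comp_apply i pX k)).mpr
          (hKU ⟨_, hir.le ⟨k, rfl⟩, rfl⟩)
    haveI : IsProper (pullback.snd i p ≫ p) := by
      rw [← pullback.condition]
      exact inferInstanceAs (IsProper (pullback.fst i p ≫ i))
    refine QCoh.isProperOver_of_subset (f := p) (pullback.snd i p) (isClosed_sectSupp ut) fun y hy => ?_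
    obtain ⟨k, hk⟩ := hir.ge (hut hy)
    obtain ⟨w, -, hw⟩ := Scheme.Pullback.exists_preimage_pullback (f := i) (g := p) k y hk
    exact ⟨w, hw⟩
  let u1 : EtCoh.sect ((shrF r').obj Gc) ((EtCoh.bc f').obj V) := ⟨ut, hinner⟩
  have houter : u1 ∈ EtShriek.shriekSubgroup f' ((shrF r').obj Gc) V := by
    refine AddSubgroup.subset_closure ((shriekPred_iff f' _ V u1).2
      (QCoh.IsProperOver.subset ⟨hC, hP⟩ (isClosed_sectSupp u1) ?_))
    rw [sectSupp_shrF]
    rintro _ ⟨y, hy, rfl⟩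
    exact hut hy
  let xc : (EtCoh.stalk η').obj ((shrF (r' ≫ f')).obj Gc) :=
    (EtCoh.stalk η').map ((shrCompIso r' f').hom.app Gc)
      ((Scheme.pointSmallEtale η').toPresheafFiber V v ((shrF f').obj ((shrF r').obj Gc)).obj ⟨u1, houter⟩)
  obtain ⟨pc, hpc⟩ := ((hgood Hc ac hac).bijective (z' := η') rfl).2 xc
  obtain ⟨P, rfl⟩ := ((ConcreteCategory.isIso_iff_bijective
    ((EtCoh.stalk (η' ≫ g)).map ((shrCompIso r f).hom.app ((EtCoh.pull r).obj F)))).1 inferInstance).2 pc
  let lz : ∀ z : Pts f (η' ≫ g), Pts f' η' := fun z => ⟨H.lift z.1 η' z.2, H.lift_snd _ _ _⟩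
  have hlz : ∀ z, (lz z).1 ≫ g' = z.1 := fun z => H.lift_fst _ _ _
  let xt := (Scheme.pointSmallEtale η').toPresheafFiber V v ((shrF f').obj G).obj t
  choose A hA using fun z => (ha.bijective (hlz z)).2 (gz f' G (lz z) xt)
  obtain ⟨p, hp⟩ : ∃ p : (EtCoh.stalk (η' ≫ g)).obj ((shrF f).obj F), ∀ z, gz f F z p = A z := by
    refine exists_descent f r U (fun c => by
        show (π ≫ U.ι).base c ∈ U
        rw [Scheme.Hom.comp_apply]
        exact (π.base c).2)
      (fun x hx => by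
        obtain ⟨c, hc⟩ := π.surjective ⟨x, hx⟩
        refine ⟨c, (Scheme.Hom.comp_apply π U.ι c).trans ?_⟩
        rw [hc]
        rfl)
      (fun N hN => isProper_of_range π hN (IsPullback.of_hasPullback N.hom r))
      F P A (fun z ζ => ?_) (fun z hz => ?_)
    · let ζ' : Spec (CommRingCat.of Ω) ⟶ pullback r g' := Hr.lift ζ.1 (lz z).1 (ζ.2.trans (hlz z).symm)
      have h1 : ζ' ≫ r' = (lz z).1 := Hr.lift_snd _ _ _
      have h3 : ζ' ≫ gc = ζ.1 := Hr.lift_fst _ _ _
      refine (hac.bijective h3).1 ?_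
      refine Eq.trans ?_ ((θ_adjLift wr a h1 (hlz z) h3 ζ.2 (A z)).trans
        (congrArg (θ ((EtCoh.pullPushAdj r').unit.app G) h1) (hA z))).symm
      obtain ⟨ζ, hζ⟩ := ζ
      obtain ⟨z, hz⟩ := z
      change ζ ≫ r = z at hζ
      subst hζ
      have e1 := gz_comp r f (η := η' ≫ g) ⟨ζ, (Category.assoc _ _ _).symm.trans hz⟩ P
      refine (congrArg (θ ac h3) e1.symm).trans ?_
      refine (gz_θψ Hc ac rfl _ ⟨ζ', by rw [← Category.assoc, h1]; exact (lz ⟨_, hz⟩).2⟩ ⟨ζ, _⟩ h3).symm.trans ?_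
      rw [hpc]
      refine (gz_comp r' f' ⟨ζ', _⟩ _).trans ?_
      refine (congrArg (gz r' Gc ⟨ζ', rfl⟩) (gz_germ f' ⟨ζ' ≫ r', _⟩ V v _)).trans ?_
      refine (gz_germ r' ⟨ζ', rfl⟩ _ _ u1).trans ?_
      refine (θ_germ ((EtCoh.pullPushAdj r').unit.app G) (z := ζ' ≫ r') rfl _ _ t.1).symm.trans ?_
      have key : ∀ (z' : Pts f' η') (h : ζ' ≫ r' = z'.1),
          θ ((EtCoh.pullPushAdj r').unit.app G) (z := ζ' ≫ r') rfl
            ((Scheme.pointSmallEtale (ζ' ≫ r')).toPresheafFiber ((EtCoh.bc f').obj V)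
              (EtFound.liftPt f' (h ▸ z'.2) v) G.obj t.1) =
          θ ((EtCoh.pullPushAdj r').unit.app G) h (gz f' G z' xt) := by
        rintro ⟨z', hz'⟩ h
        change ζ' ≫ r' = z' at h
        subst h
        exact congrArg _ (gz_germ f' ⟨_, hz'⟩ V v t).symm
      exact key (lz ⟨_, hz⟩) h1
    · refine (ha.bijective (hlz z)).1 ?_
      rw [hA z, map_zero]
      refine (gz_germ_eq_zero_iff f' (lz z) V v t).2 fun hm => hz ?_
      have h1 : pX.base (((EtFound.liftPt f' (lz z).2 v).left : Spec (CommRingCat.of Ω) ⟶ ((EtCoh.bc f').obj V).left).base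
          (default : Spec (CommRingCat.of Ω))) = z.1.base (default : Spec (CommRingCat.of Ω)) := by
        refine (Scheme.Hom.comp_apply _ _ _).symm.trans ?_
        refine congrArg (fun q : Spec (CommRingCat.of Ω) ⟶ X => q.base (default : Spec (CommRingCat.of Ω))) ?_
        exact (Category.assoc _ _ _).symm.trans
          ((congrArg (fun q => q ≫ g') (CategoryTheory.Over.w (EtFound.liftPt f' (lz z).2 v))).trans (hlz z))
      exact (congrArg (fun q => q ∈ U) h1).mp (hKU ⟨_, hm, rfl⟩)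
  refine ⟨p, fun z' z hzz => ?_⟩
  rw [hp z]
  obtain rfl : z' = lz z := Subtype.ext (H.hom_ext (hzz.trans (hlz z).symm) (z'.2.trans (lz z).2.symm))
  exact (hA z).trans (congrArg (gz f' G (lz z)) hx)

/-- germs at the base point of a separably closed field are the global sections -/
theorem germ_top_bijective {Ω : Type u} [Field Ω] [IsSepClosed Ω] (F : EtCoh.Ab (Spec (CommRingCat.of Ω))) :
    Function.Bijective ((Scheme.pointSmallEtale (𝟙 (Spec (CommRingCat.of Ω)))).toPresheafFiber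
      (EtCoh.top (Spec (CommRingCat.of Ω))) (CategoryTheory.Over.homMk (𝟙 _) (Category.comp_id _)) F.obj) := by
  let Φ := Scheme.pointSmallEtale (𝟙 (Spec (CommRingCat.of Ω)))
  let o : Φ.fiber.obj (EtCoh.top (Spec (CommRingCat.of Ω))) := CategoryTheory.Over.homMk (𝟙 _) (Category.comp_id _)
  have sec : ∀ (V : (Spec (CommRingCat.of Ω)).Etale) (v : Φ.fiber.obj V),
      ∃ c : EtCoh.top (Spec (CommRingCat.of Ω)) ⟶ V, Φ.fiber.map c o = v := fun V v =>
    ⟨MorphismProperty.Over.homMk (v.left : Spec (CommRingCat.of Ω) ⟶ V.left) (CategoryTheory.Over.w v),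
      CategoryTheory.Over.OverMorphism.ext (Category.id_comp _)⟩
  refine ⟨fun s t h => ?_, fun q => ?_⟩
  · obtain ⟨W, c, w, -, hc⟩ := (Φ.toPresheafFiber_eq_iff' _ o s t).1 h
    obtain ⟨e, -⟩ := sec W w
    have he : e ≫ c = 𝟙 _ := (EtCore.topIsTerminal _).hom_ext _ _
    have h2 := congrArg (F.obj.map e.op) hc
    rw [← Functor.map_comp_apply, ← Functor.map_comp_apply, ← op_comp, he, op_id, CategoryTheory.Functor.map_id] at h2
    exact h2
  · obtain ⟨V, v, s, rfl⟩ := Φ.toPresheafFiber_jointly_surjective (P := F.obj) q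
    obtain ⟨c, rfl⟩ := sec V v
    exact ⟨F.obj.map c.op s, Φ.toPresheafFiber_w_apply c o F.obj s⟩

end Groth.Agent.ShriekBC11
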