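import Groth.Agent.ShriekBC11.Square
import Groth.Agent.ProperBC13.Main

/-!
# Base change for direct images with proper support: open immersions, proper maps, composites
-/

set_option autoImplicit false

universe u

open CategoryTheory CategoryTheory.Limits AlgebraicGeometry Opposite

namespace Groth.Agent.ShriekBC11

set_option backward.isDefEq.respectTransparency.types false

open EtExcision

/-- base change of sections with proper support along every morphism -/
def BCGood {X Y : Scheme.{u}} (f : X ⟶ Y) [LocallyOfFiniteType f] : Prop :=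
  ∀ {X' Y' : Scheme.{u}} {g : Y' ⟶ Y} {f' : X' ⟶ Y'} {g' : X' ⟶ X} [LocallyOfFiniteType f'] [IsSeparated f']
    (H : IsPullback g' f' f g) {F : EtCoh.Ab X} {G : EtCoh.Ab X'} (a : F ⟶ (EtCoh.push g').obj G),
    PD a → PD (ψ H a)

theorem bijective_comp {A B C : AddCommGrpCat.{u + 1}} {p : A ⟶ B} {q : B ⟶ C} (hp : Function.Bijective p)
    (hq : Function.Bijective q) : Function.Bijective (p ≫ q) := by
  rw [show ⇑(p ≫ q) = ⇑q ∘ ⇑p from funext fun x => ConcreteCategory.comp_apply p q x]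
  exact hq.comp hp

theorem bijective_of_comp {A B C : AddCommGrpCat.{u + 1}} {p : A ⟶ B} {q : B ⟶ C} (hq : Function.Bijective q)
    (h : Function.Bijective (p ≫ q)) : Function.Bijective p := by
  rw [show ⇑(p ≫ q) = ⇑q ∘ ⇑p from funext fun x => ConcreteCategory.comp_apply p q x] at h
  exact (Function.Bijective.of_comp_iff' hq _).1 h

theorem bcGood_openImmersion {X Y : Scheme.{u}} (j : X ⟶ Y) [IsOpenImmersion j] : BCGood j := by
  intro X' Y' g f' g' _ _ H F G a ha Ω _ _ η'
  refine θψ_bijective_of H ha rfl fun x => ?_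
  by_cases hz : Nonempty (Pts j (η' ≫ g))
  · obtain ⟨z⟩ := hz
    let l := H.lift z.1 η' z.2
    obtain ⟨A, hA⟩ := (ha.bijective (z' := l) (H.lift_fst _ _ _)).2 (gz f' G ⟨l, H.lift_snd _ _ _⟩ x)
    obtain ⟨p, hp, -⟩ := exists_delta j F z A
    refine ⟨p, fun z' z₂ h => ?_⟩
    obtain rfl : z₂ = z := Subtype.ext ((cancel_mono j).1 (z₂.2.trans z.2.symm))
    obtain rfl : z' = ⟨l, H.lift_snd _ _ _⟩ :=
      Subtype.ext (H.hom_ext (h.trans (H.lift_fst _ _ _).symm) (z'.2.trans (H.lift_snd _ _ _).symm))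
    rw [hp]
    exact hA
  · exact ⟨0, fun z' z₂ _ => absurd ⟨z₂⟩ hz⟩

theorem bcGood_proper {X Y : Scheme.{u}} (f : X ⟶ Y) [IsProper f] : BCGood f := by
  intro X' Y' g f' g' _ _ H F G a ha Ω _ _ η'
  haveI : IsProper f' := MorphismProperty.of_isPullback H inferInstance
  let aH := ((EtCoh.pullPushAdj g').homEquiv F G).symm a
  let uF : F ⟶ (EtCoh.push g').obj ((EtCoh.pull g').obj F) := (EtCoh.pullPushAdj g').unit.app F
  haveI : IsIso aH := isIso_of_pd ha
  haveI := ProperBC13.isIso_baseChange0 f g f' g' H F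
  have hb : pushBC H.w a = pushBC H.w uF ≫ (EtCoh.push g).map ((EtCoh.push f').map aH) := by
    have e : a = uF ≫ (EtCoh.push g').map aH :=
      (((EtCoh.pullPushAdj g').homEquiv F G).apply_symm_apply a).symm.trans (Adjunction.homEquiv_unit _ _ _ _)
    conv_lhs => rw [e]
    rw [pushBC, pushBC, Functor.map_comp, Category.assoc, Category.assoc]
    exact congrArg _ ((swap H.w).naturality aH)
  have hbc : ((EtCoh.pullPushAdj g).homEquiv _ _).symm (pushBC H.w uF) = EtCoh.baseChange0 f g f' g' H.w F := by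
    simp only [pushBC, swap, EtCoh.baseChange0, NatTrans.comp_app]
    rfl
  haveI : IsIso (((EtCoh.pullPushAdj g).homEquiv _ _).symm (pushBC H.w a)) := by
    rw [hb, Adjunction.homEquiv_naturality_right_symm, hbc]
    infer_instance
  have h1 : Function.Bijective (θ (pushBC H.w a) (z' := η') rfl) := by
    rw [θ_eq_unit]
    exact bijective_comp ((pd_unit g _) Ω η') ((ConcreteCategory.isIso_iff_bijective _).1 inferInstance)
  haveI : IsIso ((shrι f).app F) := inferInstanceAs (IsIso ((shrιIso f).hom.app F))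
  haveI : IsIso ((shrι f').app G) := inferInstanceAs (IsIso ((shrιIso f').hom.app G))
  have h2 : θ (ψ H a) (z' := η') rfl ≫ (EtCoh.stalk η').map ((shrι f').app G) =
      (EtCoh.stalk (η' ≫ g)).map ((shrι f).app F) ≫ θ (pushBC H.w a) (z' := η') rfl := by
    rw [← θ_comp, ψ_shrι, θ, θ, Functor.map_comp, Category.assoc]
  have h3 : Function.Bijective (θ (ψ H a) (z' := η') rfl ≫ (EtCoh.stalk η').map ((shrι f').app G)) := by
    rw [h2]
    exact bijective_comp ((ConcreteCategory.isIso_iff_bijective _).1 inferInstance) h1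
  exact bijective_of_comp ((ConcreteCategory.isIso_iff_bijective _).1 inferInstance) h3

section comp

variable {X Y Z : Scheme.{u}} (f : X ⟶ Y) (k : Y ⟶ Z) [IsSeparated f] [LocallyOfFiniteType f]
  [IsSeparated k] [LocallyOfFiniteType k] {Ω : Type u} [Field Ω] [IsAlgClosed Ω]
  {η : Spec (CommRingCat.of Ω) ⟶ Z}

omit [IsSeparated f] [LocallyOfFiniteType f] [IsSeparated k] [LocallyOfFiniteType k] in
theorem bcComp_lift (V : Z.Etale) {z : Spec (CommRingCat.of Ω) ⟶ X} {y : Spec (CommRingCat.of Ω) ⟶ Y}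
    (h : z ≫ f = y) (hy : y ≫ k = η) (hz : z ≫ f ≫ k = η) (v : (Scheme.pointSmallEtale η).fiber.obj V) :
    (Scheme.pointSmallEtale z).fiber.map (bcCompObjIso f k V).inv (EtFound.liftPt (f ≫ k) hz v) =
      EtFound.liftPt f h (EtFound.liftPt k hy v) := by
  have e : (Scheme.pointSmallEtale z).fiber.map (bcCompObjIso f k V).hom (EtFound.liftPt f h (EtFound.liftPt k hy v)) =
      EtFound.liftPt (f ≫ k) hz v := by
    apply CategoryTheory.Over.OverMorphism.ext
    refine pullback.hom_ext ?_ ?_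
    · refine Eq.trans ?_ (EtFound.liftPt_fst (f ≫ k) hz v).symm
      refine (Category.assoc _ _ _).trans ((congrArg (_ ≫ ·) (bcCompIso_hom_prV f k V)).trans ?_)
      refine (Category.assoc _ _ _).symm.trans ((congrArg (· ≫ _) (EtFound.liftPt_fst f h _)).trans ?_)
      exact EtFound.liftPt_fst k hy v
    · refine Eq.trans ?_ (CategoryTheory.Over.w (EtFound.liftPt (f ≫ k) hz v)).symm
      exact CategoryTheory.Over.w ((Scheme.pointSmallEtale z).fiber.map (bcCompObjIso f k V).hom
        (EtFound.liftPt f h (EtFound.liftPt k hy v)))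
  rw [← e, ← Functor.map_comp_apply, Iso.hom_inv_id, CategoryTheory.Functor.map_id]
  rfl

theorem gz_comp {F : EtCoh.Ab X} (z : Pts (f ≫ k) η) (p : (EtCoh.stalk η).obj ((shrF k).obj ((shrF f).obj F))) :
    gz (f ≫ k) F z ((EtCoh.stalk η).map ((shrCompIso f k).hom.app F) p) =
      gz f F (η := z.1 ≫ f) ⟨z.1, rfl⟩
        (gz k ((shrF f).obj F) ⟨z.1 ≫ f, (Category.assoc _ _ _).trans z.2⟩ p) := by
  obtain ⟨V, v, s, rfl⟩ := (Scheme.pointSmallEtale η).toPresheafFiber_jointly_surjective p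
  refine (congrArg (gz (f ≫ k) F z)
    ((Scheme.pointSmallEtale η).toPresheafFiber_naturality_apply ((shrCompIso f k).hom.app F).hom V v s)).trans ?_
  refine (gz_germ (f ≫ k) z V v _).trans ?_
  refine Eq.trans ?_ (congrArg (gz f F (η := z.1 ≫ f) ⟨z.1, rfl⟩)
    (gz_germ k ⟨z.1 ≫ f, (Category.assoc _ _ _).trans z.2⟩ V v s)).symm
  refine Eq.trans ?_ (gz_germ f ⟨z.1, rfl⟩ _ _ s.1).symm
  refine ((Scheme.pointSmallEtale z.1).toPresheafFiber_w_apply (bcCompObjIso f k V).inv _ F.obj s.1.1).trans ?_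
  rw [bcComp_lift f k V rfl ((Category.assoc _ _ _).trans z.2) z.2 v]

theorem bcGood_comp (hf : BCGood f) (hk : BCGood k) : BCGood (f ≫ k) := by
  intro X' Y' g h' g' _ _ H F G a ha Ω _ _ η'
  let k' : pullback k g ⟶ Y' := pullback.snd k g
  let gb : pullback k g ⟶ Y := pullback.fst k g
  have H2 : IsPullback gb k' k g := IsPullback.of_hasPullback k g
  obtain ⟨f', hf₁, rfl⟩ : ∃ f' : X' ⟶ pullback k g, f' ≫ gb = g' ≫ f ∧ f' ≫ k' = h' :=
    ⟨pullback.lift (g' ≫ f) h' ((Category.assoc _ _ _).trans H.w), pullback.lift_fst _ _ _, pullback.lift_snd _ _ _⟩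
  have H1 : IsPullback g' f' f gb := IsPullback.of_bot H hf₁.symm H2
  haveI : IsSeparated f' := MorphismProperty.of_isPullback H1 inferInstance
  haveI : LocallyOfFiniteType f' := MorphismProperty.of_isPullback H1 inferInstance
  refine θψ_bijective_of H ha rfl fun x => ?_
  obtain ⟨x', hx'⟩ := ((ConcreteCategory.isIso_iff_bijective
    ((EtCoh.stalk η').map ((shrCompIso f' k').hom.app G))).1 inferInstance).2 x
  obtain ⟨p, hp⟩ := ((hk H2 (ψ H1 a) (hf H1 a ha)).bijective (z' := η') rfl).2 x'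
  refine ⟨(EtCoh.stalk (η' ≫ g)).map ((shrCompIso f k).hom.app F) p, fun z' z hz => ?_⟩
  rw [gz_comp, ← hx', gz_comp, ← hp,
    gz_θψ H2 (ψ H1 a) rfl p ⟨z'.1 ≫ f', (Category.assoc _ _ _).trans z'.2⟩
      ⟨z.1 ≫ f, (Category.assoc _ _ _).trans z.2⟩
      (by show (z'.1 ≫ f') ≫ gb = z.1 ≫ f; rw [Category.assoc, ← H1.w, ← Category.assoc, hz]),
    gz_θψ H1 a _ _ ⟨z'.1, rfl⟩ ⟨z.1, rfl⟩ hz]

end comp

end Groth.Agent.ShriekBC11
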