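import Groth.Agent.ShriekBC11.Cases

/-!
# Descent of sections with proper support along a proper surjection onto an open piece
-/

set_option autoImplicit false

universe u

open CategoryTheory CategoryTheory.Limits AlgebraicGeometry Opposite

namespace Groth.Agent.ShriekBC11

set_option backward.isDefEq.respectTransparency.types false

open EtExcision

/-- inverse image of sections -/
noncomputable abbrev unitSec {Uc X : Scheme.{u}} (r : Uc ⟶ X) (F : EtCoh.Ab X) (N : X.Etale) (σ : EtCoh.sect F N) :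
    EtCoh.sect ((EtCoh.pull r).obj F) ((EtCoh.bc r).obj N) :=
  ((EtCoh.pullPushAdj r).unit.app F).hom.app (op N) σ

theorem unitSec_res {Uc X : Scheme.{u}} (r : Uc ⟶ X) (F : EtCoh.Ab X) {N M : X.Etale} (k : M ⟶ N)
    (σ : EtCoh.sect F N) :
    unitSec r F M (res F k σ) = res ((EtCoh.pull r).obj F) ((EtCoh.bc r).map k) (unitSec r F N σ) :=
  NatTrans.naturality_apply ((EtCoh.pullPushAdj r).unit.app F).hom k.op σ

/-- a section of the direct image with proper support descends -/
theorem exists_descent {X Y Uc : Scheme.{u}} (f : X ⟶ Y) [LocallyOfFiniteType f]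
    (r : Uc ⟶ X) [LocallyOfFiniteType r] (U : X.Opens) (hr : ∀ c : Uc, r.base c ∈ U)
    (hsurj : ∀ x ∈ U, ∃ c : Uc, r.base c = x)
    (hprop : ∀ N : X.Etale, (∀ n : N.left, N.hom.base n ∈ U) → IsProper (EtShriek.prV r N))
    (F : EtCoh.Ab X) {Ω : Type u} [Field Ω] [IsAlgClosed Ω] {η : Spec (CommRingCat.of Ω) ⟶ Y}
    (P : (EtCoh.stalk η).obj ((shrF f).obj ((shrF r).obj ((EtCoh.pull r).obj F))))
    (A : ∀ z : Pts f η, (EtCoh.stalk z.1).obj F)
    (hP : ∀ (z : Pts f η) (ζ : Pts r z.1),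
      gz r ((EtCoh.pull r).obj F) ζ (gz f _ z P) = θ ((EtCoh.pullPushAdj r).unit.app F) ζ.2 (A z))
    (hA : ∀ z : Pts f η, z.1.base (default : Spec (CommRingCat.of Ω)) ∉ U → A z = 0) :
    ∃ p : (EtCoh.stalk η).obj ((shrF f).obj F), ∀ z : Pts f η, gz f F z p = A z := by
  classical
  let Fc := (EtCoh.pull r).obj F
  let InU : X.Etale → Prop := fun N => ∀ n : N.left, N.hom.base n ∈ U
  have hmem : ∀ (N : X.Etale), InU N → ∀ t : EtCoh.sect Fc ((EtCoh.bc r).obj N),
      t ∈ EtShriek.shriekSubgroup r Fc N := fun N hN t => by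
    have := hprop N hN
    exact AddSubgroup.subset_closure ((shriekPred_iff r Fc N t).2 (isProperOver_of_isProper _ (isClosed_sectSupp t)))
  obtain ⟨V, v, S, rfl⟩ := (Scheme.pointSmallEtale η).toPresheafFiber_jointly_surjective P
  -- points of the base change where the section comes from `F`
  let Good : Set ((EtCoh.bc f).obj V).left := {x | ∃ (N : X.Etale) (m : N ⟶ (EtCoh.bc f).obj V) (n : N.left),
    m.left.base n = x ∧ InU N ∧ ∃ σ : EtCoh.sect F N, unitSec r F N σ = (res ((shrF r).obj Fc) m S.1).1}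
  have hGo : IsOpen Good := by
    refine isOpen_iff_forall_mem_open.2 fun x hx => ?_
    obtain ⟨N, m, n, hn, hN, σ, hσ⟩ := hx
    have := EtFound.etale_left m
    exact ⟨Set.range m.left.base, fun y ⟨n', hn'⟩ => ⟨N, m, n', hn', hN, σ, hσ⟩,
      m.left.isOpenMap.isOpen_range, ⟨n, hn⟩⟩
  let C : Set ((EtCoh.bc f).obj V).left := EtShriek.sectSupp ((shrF r).obj Fc) ((EtCoh.bc f).obj V) S.1
  have hC : IsClosed C := isClosed_sectSupp S.1
  have hCU : ∀ x ∈ C, ((EtCoh.bc f).obj V).hom.base x ∈ U := fun x hx => by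
    have hx' : x ∈ ⇑(EtShriek.prV r ((EtCoh.bc f).obj V)) '' EtShriek.sectSupp Fc _ S.1.1 :=
      (congrArg (fun s => x ∈ s) (sectSupp_shrF r Fc _ S.1)).mp hx
    obtain ⟨c, -, rfl⟩ := hx'
    have h1 := congrArg (fun q : ((EtCoh.bc r).obj ((EtCoh.bc f).obj V)).left ⟶ X => q.base c)
      (pullback.condition (f := ((EtCoh.bc f).obj V).hom) (g := r))
    exact (congrArg (fun q => q ∈ U) ((Scheme.Hom.comp_apply _ _ c).symm.trans (h1.trans (Scheme.Hom.comp_apply _ _ c)))).mpr
      (hr _)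
  have hB : ClSub.IsProperOver (EtShriek.prV f V) (C \ Good) :=
    QCoh.IsProperOver.subset (isProperOver_sectSupp_mem f _ V S) (hC.sdiff hGo) fun x hx => hx.1
  let O : V.left.Opens := ⟨(⇑(EtShriek.prV f V) '' (C \ Good))ᶜ,
    (isClosed_image_of_isProperOver hB).isOpen_compl⟩
  have hvO : (v.left : Spec (CommRingCat.of Ω) ⟶ V.left).base (default : Spec (CommRingCat.of Ω)) ∈ O := by
    rintro ⟨x, hx, hxv⟩
    obtain ⟨l, hl, hlx⟩ := exists_lift_mem (EtShriek.prV f V) (v.left : Spec (CommRingCat.of Ω) ⟶ V.left)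
      (hC.sdiff hGo) x hx hxv
    let z : Pts f η := ⟨l ≫ pullback.snd V.hom f, comp_snd_eq f V v l hl⟩
    let y := EtFound.liftPt f z.2 v
    have hy : (y.left : Spec (CommRingCat.of Ω) ⟶ pullback V.hom f) = l :=
      pullback.hom_ext ((EtFound.liftPt_fst f z.2 v).trans hl.symm) (CategoryTheory.Over.w y)
    have hzU : z.1.base (default : Spec (CommRingCat.of Ω)) ∈ U := (Scheme.Hom.comp_apply _ _ _) ▸ hCU _ hlx.1
    obtain ⟨N, n, σ, hσ⟩ := (Scheme.pointSmallEtale z.1).toPresheafFiber_jointly_surjective (A z)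
    obtain ⟨⟨T, t⟩, ⟨a, ha⟩, ⟨b, hb⟩, -⟩ := IsCofilteredOrEmpty.cone_objs
      ((Scheme.pointSmallEtale z.1).fiber.elementsMk N n)
      ((Scheme.pointSmallEtale z.1).fiber.elementsMk ((EtCoh.bc f).obj V) y)
    have ha' : (Scheme.pointSmallEtale z.1).fiber.map a t = n := ha
    have hb' : (Scheme.pointSmallEtale z.1).fiber.map b t = y := hb
    let Q : T.left.Opens := T.hom ⁻¹ᵁ U
    have htQ : (t.left : Spec (CommRingCat.of Ω) ⟶ T.left).base (default : Spec (CommRingCat.of Ω)) ∈ Q := by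
      show T.hom.base ((t.left : Spec (CommRingCat.of Ω) ⟶ T.left).base (default : Spec (CommRingCat.of Ω))) ∈ U
      have e : (t.left : Spec (CommRingCat.of Ω) ⟶ T.left) ≫ T.hom = z.1 := CategoryTheory.Over.w t
      exact (congrArg (fun q => q ∈ U) ((Scheme.Hom.comp_apply _ _ _).symm.trans
        (congrArg (fun q : Spec (CommRingCat.of Ω) ⟶ X => q.base (default : Spec (CommRingCat.of Ω))) e))).mpr hzU
    obtain ⟨o, ho⟩ := exists_openι htQ
    obtain ⟨t', ht', -⟩ := EtFound.exists_lift_point (openι T Q) t o ho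
    have hQ : InU (openE T Q) := fun q => by
      show (Q.ι ≫ T.hom).base q ∈ U
      rw [Scheme.Hom.comp_apply]
      exact q.2
    let k : openE T Q ⟶ (EtCoh.bc f).obj V := openι T Q ≫ b
    let σ' : EtCoh.sect F (openE T Q) := res F (openι T Q ≫ a) σ
    let uσ : EtCoh.sect ((shrF r).obj Fc) (openE T Q) := ⟨unitSec r F _ σ', hmem _ hQ _⟩
    have hk : (Scheme.pointSmallEtale z.1).fiber.map k t' = y := by
      rw [Functor.map_comp_apply, ht', hb']
    have hσ' : (Scheme.pointSmallEtale z.1).toPresheafFiber (openE T Q) t' F.obj σ' = A z := by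
      refine ((Scheme.pointSmallEtale z.1).toPresheafFiber_w_apply (openι T Q ≫ a) t' F.obj σ).trans ?_
      rw [Functor.map_comp_apply, ht', ha']
      exact hσ
    have heq : (Scheme.pointSmallEtale z.1).toPresheafFiber (openE T Q) t' ((shrF r).obj Fc).obj uσ =
        (Scheme.pointSmallEtale z.1).toPresheafFiber (openE T Q) t' ((shrF r).obj Fc).obj
          (res ((shrF r).obj Fc) k S.1) := by
      refine gz_ext r fun ζ => ?_
      refine (gz_germ r ζ _ t' uσ).trans ?_
      refine (θ_germ ((EtCoh.pullPushAdj r).unit.app F) ζ.2 (openE T Q) t' σ').symm.trans ?_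
      refine (congrArg (θ ((EtCoh.pullPushAdj r).unit.app F) ζ.2) hσ').trans ((hP z ζ).symm.trans ?_)
      refine congrArg (gz r Fc ζ) ?_
      refine (gz_germ f z V v S).trans ?_
      refine Eq.trans ?_ ((Scheme.pointSmallEtale z.1).toPresheafFiber_w_apply k t' ((shrF r).obj Fc).obj S.1).symm
      exact congrArg (fun q => (Scheme.pointSmallEtale z.1).toPresheafFiber _ q ((shrF r).obj Fc).obj S.1) hk.symm
    obtain ⟨M, c, w, hw, hc⟩ := ((Scheme.pointSmallEtale z.1).toPresheafFiber_eq_iff' _ _ _ _).1 heq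
    refine hlx.2 ⟨M, c ≫ k, (w.left : Spec (CommRingCat.of Ω) ⟶ M.left).base (default : Spec (CommRingCat.of Ω)),
      ?_, fun q => ?_, res F c σ', ?_⟩
    · have e : (Scheme.pointSmallEtale z.1).fiber.map (c ≫ k) w = y := by rw [Functor.map_comp_apply, hw, hk]
      have e' : ((w.left : Spec (CommRingCat.of Ω) ⟶ M.left) ≫ (c ≫ k).left) = l :=
        (congrArg (fun q => q.left) e).trans hy
      exact (Scheme.Hom.comp_apply _ _ _).symm.trans
        (congrArg (fun q : Spec (CommRingCat.of Ω) ⟶ ((EtCoh.bc f).obj V).left => q.base (default : Spec (CommRingCat.of Ω))) e')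
    · rw [← MorphismProperty.Over.w c, Scheme.Hom.comp_apply]
      exact hQ _
    · rw [unitSec_res]
      refine (congrArg Subtype.val hc).trans ?_
      exact congrArg Subtype.val (res_res ((shrF r).obj Fc) c k S.1)
  -- shrink the base
  obtain ⟨o, ho⟩ := exists_openι hvO
  obtain ⟨v', hv', -⟩ := EtFound.exists_lift_point (openι V O) v o ho
  let j : (EtCoh.bc f).obj (openE V O) ⟶ (EtCoh.bc f).obj V := (EtCoh.bc f).map (openι V O)
  let S' : EtCoh.sect ((shrF r).obj Fc) ((EtCoh.bc f).obj (openE V O)) := res ((shrF r).obj Fc) j S.1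
  let C' : Set ((EtCoh.bc f).obj (openE V O)).left := EtShriek.sectSupp ((shrF r).obj Fc) _ S'
  have hC' : IsClosed C' := isClosed_sectSupp S'
  let Rep : ∀ (N : X.Etale), (N ⟶ (EtCoh.bc f).obj (openE V O)) → EtCoh.sect F N → Prop := fun N m σ =>
    (InU N ∧ unitSec r F N σ = (res ((shrF r).obj Fc) m S').1) ∨
      ((∀ n, m.left.base n ∉ C') ∧ σ = 0)
  have hzero : ∀ (N : X.Etale) (m : N ⟶ (EtCoh.bc f).obj (openE V O)), (∀ n, m.left.base n ∉ C') →
      res ((shrF r).obj Fc) m S' = 0 := fun N m h => res_eq_zero_of_avoid m S' subset_rfl h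
  have hrepr : ∀ (N : X.Etale) (m : N ⟶ (EtCoh.bc f).obj (openE V O)) (σ : EtCoh.sect F N),
      Rep N m σ → InU N → unitSec r F N σ = (res ((shrF r).obj Fc) m S').1 := by
    rintro N m σ (⟨-, h⟩ | ⟨h, rfl⟩) _
    · exact h
    · rw [hzero N m h]
      exact map_zero _
  have huniq : ∀ (N : X.Etale) (m : N ⟶ (EtCoh.bc f).obj (openE V O)) (σ τ : EtCoh.sect F N),
      Rep N m σ → Rep N m τ → σ = τ := by
    intro N m σ τ hσ hτ
    by_cases hN : InU N
    · have e : unitSec r F N σ = unitSec r F N τ := (hrepr N m σ hσ hN).trans (hrepr N m τ hτ hN).symm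
      refine eq_of_germs fun Ω' _ _ ξ u => ?_
      have hξ : ξ.base (default : Spec (CommRingCat.of Ω')) ∈ U := by
        rw [← show (u.left : Spec (CommRingCat.of Ω') ⟶ N.left) ≫ N.hom = ξ from CategoryTheory.Over.w u,
          Scheme.Hom.comp_apply]
        exact hN _
      obtain ⟨c, hc⟩ := hsurj _ hξ
      obtain ⟨ζ, hζ, -⟩ := exists_lift_mem r ξ (isClosed_univ) c trivial hc
      refine ((pd_unit r F).bijective (z' := ζ) hζ).1 ?_
      exact (θ_germ _ hζ N u σ).trans ((congrArg _ e).trans (θ_germ _ hζ N u τ).symm)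
    · rcases hσ with ⟨h, -⟩ | ⟨-, rfl⟩
      · exact absurd h hN
      · rcases hτ with ⟨h, -⟩ | ⟨-, rfl⟩
        · exact absurd h hN
        · rfl
  have hdown : ∀ (N M : X.Etale) (m : N ⟶ (EtCoh.bc f).obj (openE V O)) (k : M ⟶ N) (σ : EtCoh.sect F N),
      Rep N m σ → Rep M (k ≫ m) (res F k σ) := by
    rintro N M m k σ (⟨hN, h⟩ | ⟨h, rfl⟩)
    · refine Or.inl ⟨fun n => ?_, ?_⟩
      · rw [← MorphismProperty.Over.w k, Scheme.Hom.comp_apply]
        exact hN _
      · rw [unitSec_res, h]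
        exact congrArg Subtype.val (res_res ((shrF r).obj Fc) k m S')
    · exact Or.inr ⟨fun n => h (k.left.base n), map_zero (F.obj.map k.op).hom⟩
  let Sv : Sieve ((EtCoh.bc f).obj (openE V O)) :=
    { arrows := fun N m => ∃ σ, Rep N m σ
      downward_closed := fun {N M m} hm k => ⟨_, hdown N M m k _ hm.choose_spec⟩ }
  let C'' : ((EtCoh.bc f).obj (openE V O)).left.Opens := ⟨C'ᶜ, hC'.isOpen_compl⟩
  have hSv : Sv ∈ X.smallEtaleTopology _ := (EtFound.mem_topology_iff Sv).2 fun x => by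
    by_cases hx : x ∈ C'
    · have hjC : j.left.base x ∈ C := sectSupp_res_subset j S.1 hx
      have hG : j.left.base x ∈ Good := by
        by_contra hG
        refine openι_mem O ((EtShriek.prV f (openE V O)).base x) ⟨j.left.base x, ⟨hjC, hG⟩, ?_⟩
        rw [← Scheme.Hom.comp_apply, ← Scheme.Hom.comp_apply]
        exact congrArg (fun q : ((EtCoh.bc f).obj (openE V O)).left ⟶ V.left => q.base x)
          (EtCoh.isPullback_bc_map f (openι V O)).w
      obtain ⟨N, m, n, hn, hN, σ, hσ⟩ := hG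
      obtain ⟨P', p, q, w, hw, e⟩ := exists_pullback_nbhd j m x n hn.symm
      refine ⟨P', p, w, ⟨res F q σ, Or.inl ⟨fun i => ?_, ?_⟩⟩, hw⟩
      · rw [← MorphismProperty.Over.w q, Scheme.Hom.comp_apply]
        exact hN _
      · rw [unitSec_res, hσ]
        refine congrArg Subtype.val ((res_res ((shrF r).obj Fc) q m S.1).trans ?_)
        rw [← e]
        exact (res_res ((shrF r).obj Fc) p j S.1).symm
    · obtain ⟨n, hn⟩ := exists_openι (O := C'') hx
      exact ⟨_, openι _ C'', n, ⟨0, Or.inr ⟨fun w => openι_mem C'' w, rfl⟩⟩, hn⟩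
  have hs := (isSheaf_iff_isSheaf_of_type _ _).1
    ((Presheaf.isSheaf_iff_isSheaf_forget _ F.obj (CategoryTheory.forget AddCommGrpCat.{u + 1})).1 F.property)
  obtain ⟨s, hs, -⟩ := hs Sv hSv (fun N m hm => hm.choose)
    ((Presieve.compatible_iff_sieveCompatible _).2 fun N M m k hm =>
      huniq M (k ≫ m) _ _ (Sv.downward_closed hm k).choose_spec (hdown N M m k _ hm.choose_spec))
  have hval : ∀ (N : X.Etale) (m : N ⟶ (EtCoh.bc f).obj (openE V O)), Sv.arrows m → Rep N m (res F m s) :=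
    fun N m hm => by
      rw [show res F m s = hm.choose from hs m hm]
      exact hm.choose_spec
  have hsupp : EtShriek.sectSupp F _ s ⊆ C' := fun x hx => by
    by_contra hxC
    obtain ⟨n, hn⟩ := exists_openι (O := C'') hxC
    refine hx _ (openι _ C'') ⟨n, hn⟩ ?_
    exact huniq _ (openι _ C'') _ 0 (hval _ _ ⟨0, Or.inr ⟨fun w => openι_mem C'' w, rfl⟩⟩)
      (Or.inr ⟨fun w => openι_mem C'' w, rfl⟩)
  have hpred : s ∈ EtShriek.shriekSubgroup f F (openE V O) :=
    AddSubgroup.subset_closure ((shriekPred_iff f F _ s).2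
      (QCoh.IsProperOver.subset (isProperOver_sectSupp_mem f ((shrF r).obj Fc) (openE V O)
        (((shrF f).obj ((shrF r).obj Fc)).obj.map (openι V O).op S)) (isClosed_sectSupp s) hsupp))
  refine ⟨(Scheme.pointSmallEtale η).toPresheafFiber (openE V O) v' ((shrF f).obj F).obj ⟨s, hpred⟩, fun z => ?_⟩
  refine (gz_germ f z (openE V O) v' ⟨s, hpred⟩).trans ?_
  let y := EtFound.liftPt f z.2 v'
  have hval0 : gz f _ z ((Scheme.pointSmallEtale η).toPresheafFiber V v ((shrF f).obj ((shrF r).obj Fc)).obj S) =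
      (Scheme.pointSmallEtale z.1).toPresheafFiber _ y ((shrF r).obj Fc).obj S' := by
    rw [← hv', ← (Scheme.pointSmallEtale η).toPresheafFiber_w_apply]
    exact gz_germ f z (openE V O) v' _
  obtain ⟨N, m, n, hm, hn⟩ := (EtFound.mem_topology_iff Sv).1 hSv
    ((y.left : Spec (CommRingCat.of Ω) ⟶ ((EtCoh.bc f).obj (openE V O)).left).base
      (default : Spec (CommRingCat.of Ω)))
  obtain ⟨n', hn', -⟩ := EtFound.exists_lift_point m y n hn
  have hy : (Scheme.pointSmallEtale z.1).toPresheafFiber _ y F.obj s =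
      (Scheme.pointSmallEtale z.1).toPresheafFiber N n' F.obj (res F m s) := by
    rw [← hn']
    exact ((Scheme.pointSmallEtale z.1).toPresheafFiber_w_apply m n' F.obj s).symm
  have hy' : (Scheme.pointSmallEtale z.1).toPresheafFiber _ y ((shrF r).obj Fc).obj S' =
      (Scheme.pointSmallEtale z.1).toPresheafFiber N n' ((shrF r).obj Fc).obj (res ((shrF r).obj Fc) m S') := by
    rw [← hn']
    exact ((Scheme.pointSmallEtale z.1).toPresheafFiber_w_apply m n' ((shrF r).obj Fc).obj S').symm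
  rw [show EtFound.liftPt f z.2 v' = y from rfl, hy]
  by_cases hzU : z.1.base (default : Spec (CommRingCat.of Ω)) ∈ U
  · obtain ⟨c, hc⟩ := hsurj _ hzU
    obtain ⟨ζ, hζ, -⟩ := exists_lift_mem r z.1 isClosed_univ c trivial hc
    refine ((pd_unit r F).bijective (z' := ζ) hζ).1 ?_
    refine Eq.trans ?_ (hP z ⟨ζ, hζ⟩)
    refine (θ_germ _ hζ N n' _).trans (Eq.trans ?_ ((congrArg (gz r Fc ⟨ζ, hζ⟩) (hval0.trans hy')).trans
      (gz_germ r ⟨ζ, hζ⟩ N n' _)).symm)
    refine congrArg _ ?_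
    rcases hval N m hm with ⟨hN, h⟩ | ⟨h, h0⟩
    · exact h
    · rw [h0, hzero N m h]
      exact map_zero _
  · rw [hA z hzU]
    rcases hval N m hm with ⟨hN, -⟩ | ⟨-, h0⟩
    · refine absurd ?_ hzU
      rw [← show (n'.left : Spec (CommRingCat.of Ω) ⟶ N.left) ≫ N.hom = z.1 from CategoryTheory.Over.w n',
        Scheme.Hom.comp_apply]
      exact hN _
    · rw [h0]
      exact map_zero _

end Groth.Agent.ShriekBC11
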