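import Groth.Agent.SiteBase.EtExcision.Compactify
import Groth.Agent.SiteBase.EtExcision.Lqf
import Groth.Agent.EtFound.FiniteBaseChange
import Groth.Agent.EtFound.PullGerm
import Groth.Agent.EtFound.LocConst
import Mathlib.AlgebraicGeometry.AlgClosed.Basic

/-!
# Germs of sections with proper support and comparison maps on stalks
-/

set_option autoImplicit false

universe u

open CategoryTheory CategoryTheory.Limits AlgebraicGeometry Opposite

namespace Groth.Agent.ShriekBC11

set_option backward.isDefEq.respectTransparency.types false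

open EtExcision

/-- a closed set meeting the fibre of a geometric point contains a point over it -/
theorem exists_lift_mem {T V : Scheme.{u}} (q : T ⟶ V) [LocallyOfFiniteType q] {Ω : Type u} [Field Ω] [IsAlgClosed Ω]
    (v : Spec (CommRingCat.of Ω) ⟶ V) {C : Set T} (hC : IsClosed C) (x : T) (hx : x ∈ C)
    (hv : q.base x = v.base (default : Spec (CommRingCat.of Ω))) :
    ∃ l : Spec (CommRingCat.of Ω) ⟶ T, l ≫ q = v ∧ l.base (default : Spec (CommRingCat.of Ω)) ∈ C := by
  obtain ⟨z, hz, -⟩ := Scheme.Pullback.exists_preimage_pullback (f := q) (g := v) x default hv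
  have : JacobsonSpace (pullback q v : Scheme.{u}) := LocallyOfFiniteType.jacobsonSpace (pullback.snd q v)
  have hne : ((pullback.fst q v).base ⁻¹' C).Nonempty := ⟨z, by rw [Set.mem_preimage, hz]; exact hx⟩
  obtain ⟨c, hc, hc'⟩ := nonempty_inter_closedPoints hne ((hC.preimage (pullback.fst q v).continuous).isLocallyClosed)
  let l := pointOfClosedPoint (pullback.snd q v) c hc'
  refine ⟨l ≫ pullback.fst q v, ?_, ?_⟩
  · rw [Category.assoc, pullback.condition, ← Category.assoc, pointOfClosedPoint_comp]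
    exact Category.id_comp v
  · rw [Scheme.Hom.comp_apply, pointOfClosedPoint_apply]
    exact hc

section gz

variable {X Y : Scheme.{u}} (f : X ⟶ Y) [LocallyOfFiniteType f]
  {Ω : Type u} [Field Ω] [IsAlgClosed Ω] {η : Spec (CommRingCat.of Ω) ⟶ Y}

/-- sections with proper support are detected on the rational points of the fibre -/
theorem gz_injective (F : EtCoh.Ab X) (p : (EtCoh.stalk η).obj ((shrF f).obj F))
    (h : ∀ z : Pts f η, gz f F z p = 0) : p = 0 := by
  obtain ⟨V, v, s, rfl⟩ := (Scheme.pointSmallEtale η).toPresheafFiber_jointly_surjective p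
  have hP := isProperOver_sectSupp_mem f F V s
  let O : V.left.Opens := ⟨(⇑(EtShriek.prV f V) '' EtShriek.sectSupp F ((EtCoh.bc f).obj V) s.1)ᶜ,
    (isClosed_image_of_isProperOver hP).isOpen_compl⟩
  have hvO : (v.left : Spec (CommRingCat.of Ω) ⟶ V.left).base (default : Spec (CommRingCat.of Ω)) ∈ O := by
    rintro ⟨x, hx, hxv⟩
    obtain ⟨l, hl, hlx⟩ := exists_lift_mem (EtShriek.prV f V) (v.left : Spec (CommRingCat.of Ω) ⟶ V.left)
      (isClosed_sectSupp s.1) x hx hxv
    have hξ : (l ≫ pullback.snd V.hom f) ≫ f = η := comp_snd_eq f V v l hl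
    refine (gz_germ_eq_zero_iff f ⟨_, hξ⟩ V v s).1 (h _) ?_
    have hl' : ((EtFound.liftPt f hξ v).left : Spec (CommRingCat.of Ω) ⟶ pullback V.hom f) = l :=
      pullback.hom_ext ((EtFound.liftPt_fst f hξ v).trans hl.symm) (CategoryTheory.Over.w (EtFound.liftPt f hξ v))
    have e := congrArg (fun m : Spec (CommRingCat.of Ω) ⟶ pullback V.hom f => m.base (default : Spec (CommRingCat.of Ω))) hl'
    exact e.symm ▸ hlx
  obtain ⟨o, ho⟩ := exists_openι hvO
  obtain ⟨w, hw, -⟩ := EtFound.exists_lift_point (openι V O) v o ho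
  rw [← hw]
  refine ((Scheme.pointSmallEtale η).toPresheafFiber_w_apply (openι V O) w ((shrF f).obj F).obj s).symm.trans ?_
  have h0 : ((shrF f).obj F).obj.map (openι V O).op s = 0 := Subtype.ext
    (eq_zero_of_sectSupp_eq_empty _ (Set.eq_empty_iff_forall_notMem.2 fun x hx => by
      refine openι_mem O ((EtShriek.prV f (openE V O)).base x)
        ⟨_, sectSupp_res_subset ((EtCoh.bc f).map (openι V O)) s.1 hx, ?_⟩
      rw [← Scheme.Hom.comp_apply, ← Scheme.Hom.comp_apply]
      exact congrArg (fun m : ((EtCoh.bc f).obj (openE V O)).left ⟶ V.left => m.base x)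
        (EtCoh.isPullback_bc_map f (openι V O)).w))
  rw [h0]
  exact map_zero _

theorem gz_ext {F : EtCoh.Ab X} {p q : (EtCoh.stalk η).obj ((shrF f).obj F)}
    (h : ∀ z : Pts f η, gz f F z p = gz f F z q) : p = q :=
  sub_eq_zero.1 (gz_injective f F (p - q) fun z => (map_sub (gz f F z).hom p q).trans (sub_eq_zero.2 (h z)))

end gz

/-- sections with all germs zero vanish -/
theorem eq_of_germs {X : Scheme.{u}} {F : EtCoh.Ab X} {U : X.Etale} {s t : EtCoh.sect F U}
    (h : ∀ (Ω : Type u) [Field Ω] [IsAlgClosed Ω] (ξ : Spec (CommRingCat.of Ω) ⟶ X)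
      (u : (Scheme.pointSmallEtale ξ).fiber.obj U),
      (Scheme.pointSmallEtale ξ).toPresheafFiber U u F.obj s = (Scheme.pointSmallEtale ξ).toPresheafFiber U u F.obj t) :
    s = t := by
  refine sub_eq_zero.1 (eq_zero_of_sectSupp_eq_empty (s - t) (Set.eq_empty_iff_forall_notMem.2 fun x hx => ?_))
  obtain ⟨Ω, _, _, ξ, u, hu⟩ := EtFound.exists_algClosed_point U x
  have h0 := (map_sub ((Scheme.pointSmallEtale ξ).toPresheafFiber U u F.obj).hom s t).trans (sub_eq_zero.2 (h Ω ξ u))
  exact (germ_eq_zero_iff U u (s - t)).1 h0 (hu ▸ hx)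

section theta

variable {X X' : Scheme.{u}} {g' : X' ⟶ X} {F : EtCoh.Ab X} {G : EtCoh.Ab X'}

/-- the map on stalks attached to a morphism `F ⟶ g'_* G` -/
noncomputable def θ (a : F ⟶ (EtCoh.push g').obj G) {Ω : Type u} [Field Ω] [IsSepClosed Ω]
    {z' : Spec (CommRingCat.of Ω) ⟶ X'} {z : Spec (CommRingCat.of Ω) ⟶ X} (h : z' ≫ g' = z) :
    (EtCoh.stalk z).obj F ⟶ (EtCoh.stalk z').obj G :=
  (EtCoh.stalk z).map a ≫ (EtFound.pushStalkAt g' h).app G

/-- `a` induces bijections on all geometric stalks -/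
def PD (a : F ⟶ (EtCoh.push g').obj G) : Prop :=
  ∀ (Ω : Type u) [Field Ω] [IsAlgClosed Ω] (z' : Spec (CommRingCat.of Ω) ⟶ X'),
    Function.Bijective (θ a (z' := z') rfl)

variable {Ω : Type u} [Field Ω]

theorem θ_germ [IsSepClosed Ω] (a : F ⟶ (EtCoh.push g').obj G) {z' : Spec (CommRingCat.of Ω) ⟶ X'}
    {z : Spec (CommRingCat.of Ω) ⟶ X} (h : z' ≫ g' = z) (U : X.Etale)
    (v : (Scheme.pointSmallEtale z).fiber.obj U) (s : EtCoh.sect F U) :
    θ a h ((Scheme.pointSmallEtale z).toPresheafFiber U v F.obj s) =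
      (Scheme.pointSmallEtale z').toPresheafFiber ((EtCoh.bc g').obj U) (EtFound.liftPt g' h v) G.obj
        (a.hom.app (op U) s) :=
  (congrArg ((EtFound.pushStalkAt g' h).app G)
    ((Scheme.pointSmallEtale z).toPresheafFiber_naturality_apply a.hom U v s)).trans
    (EtFound.pushStalkAt_germ_apply g' h G v _)

theorem PD.bijective [IsAlgClosed Ω] {a : F ⟶ (EtCoh.push g').obj G} (ha : PD a)
    {z' : Spec (CommRingCat.of Ω) ⟶ X'} {z : Spec (CommRingCat.of Ω) ⟶ X} (h : z' ≫ g' = z) :
    Function.Bijective (θ a h) := by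
  subst h
  exact ha Ω z'

theorem θ_comp [IsSepClosed Ω] (a : F ⟶ (EtCoh.push g').obj G) {G₂ : EtCoh.Ab X'} (b : G ⟶ G₂)
    {z' : Spec (CommRingCat.of Ω) ⟶ X'} {z : Spec (CommRingCat.of Ω) ⟶ X} (h : z' ≫ g' = z) :
    θ (a ≫ (EtCoh.push g').map b) h = θ a h ≫ (EtCoh.stalk z').map b := by
  rw [θ, θ, Functor.map_comp, Category.assoc, Category.assoc]
  exact congrArg _ ((EtFound.pushStalkAt g' h).naturality b)

theorem θ_eq_unit [IsSepClosed Ω] (a : F ⟶ (EtCoh.push g').obj G)
    {z' : Spec (CommRingCat.of Ω) ⟶ X'} {z : Spec (CommRingCat.of Ω) ⟶ X} (h : z' ≫ g' = z) :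
    θ a h = θ ((EtCoh.pullPushAdj g').unit.app F) h ≫
      (EtCoh.stalk z').map (((EtCoh.pullPushAdj g').homEquiv F G).symm a) := by
  rw [← θ_comp]
  exact congrArg (fun q => θ q h)
    ((((EtCoh.pullPushAdj g').homEquiv F G).apply_symm_apply a).symm.trans (Adjunction.homEquiv_unit _ _ _ _))

theorem θ_unit_eq [IsSepClosed Ω] (g' : X' ⟶ X) (F : EtCoh.Ab X) (z' : Spec (CommRingCat.of Ω) ⟶ X') :
    θ ((EtCoh.pullPushAdj g').unit.app F) (z' := z') rfl = (EtFound.sheafFiberPullIso g' z').inv.app F := by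
  refine (Scheme.pointSmallEtale (z' ≫ g')).presheafFiber_hom_ext fun U v => ?_
  refine ConcreteCategory.hom_ext _ _ fun s => ?_
  refine ((ConcreteCategory.comp_apply _ _ s).trans (θ_germ _ rfl U v s)).trans ?_
  have e : EtFound.bcFiberEquiv g' z' U (EtFound.liftPt g' rfl v) = v :=
    (EtFound.bcFiberEquiv g' z' U).apply_symm_apply v
  have h := EtFound.sheafFiberPullIso_germ g' z' F U (EtFound.liftPt g' rfl v)
  rw [e] at h
  exact (ConcreteCategory.congr_hom h s).symm

theorem pd_unit (g' : X' ⟶ X) (F : EtCoh.Ab X) : PD ((EtCoh.pullPushAdj g').unit.app F) := fun Ω _ _ z' => by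
  rw [θ_unit_eq]
  exact (ConcreteCategory.isIso_iff_bijective _).1 inferInstance

/-- a morphism bijective on stalks exhibits an inverse image -/
theorem isIso_of_pd {a : F ⟶ (EtCoh.push g').obj G} (ha : PD a) :
    IsIso (((EtCoh.pullPushAdj g').homEquiv F G).symm a) := by
  haveI : ∀ p : AlgPt X', IsIso ((EtCoh.stalk p.pt).map (((EtCoh.pullPushAdj g').homEquiv F G).symm a)) :=
    fun p => (ConcreteCategory.isIso_iff_bijective _).2 ?_
  · exact (jointlyReflect_algPt X').isIso _
  have h := ha p.Ω p.pt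
  rw [θ_eq_unit] at h
  exact (Function.Bijective.of_comp_iff _ ((pd_unit g' F) p.Ω p.pt)).1 h

end theta

end Groth.Agent.ShriekBC11
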