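import Groth.Agent.ShriekBC11.Germ

/-!
# The base change map of direct images with proper support
-/

set_option autoImplicit false

universe u

open CategoryTheory CategoryTheory.Limits AlgebraicGeometry Opposite

namespace Groth.Agent.ShriekBC11

set_option backward.isDefEq.respectTransparency.types false

open EtExcision

section swap

variable {X Y X' Y' : Scheme.{u}} {f : X ⟶ Y} {g : Y' ⟶ Y} {f' : X' ⟶ Y'} {g' : X' ⟶ X}

/-- exchanging direct images in a commutative square -/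
noncomputable def swap (w : g' ≫ f = f' ≫ g) : EtCoh.push g' ⋙ EtCoh.push f ⟶ EtCoh.push f' ⋙ EtCoh.push g :=
  (EtCoh.pushComp f g').hom ≫ (EtCoh.pushCongr w).hom ≫ (EtCoh.pushComp g f').inv

theorem swap_app (w : g' ≫ f = f' ≫ g) (G : EtCoh.Ab X') (V : Y.Etale) :
    ((swap w).app G).hom.app (op V) = G.obj.map (EtFound.bcSquare w V).op := by
  simp [swap, EtFound.bcSquare, EtCoh.pushComp, EtCoh.pushCongr]
  rfl

theorem bcSquare_lift {Ω : Type u} [Field Ω] [IsSepClosed Ω] (w : g' ≫ f = f' ≫ g)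
    {ξ' : Spec (CommRingCat.of Ω) ⟶ X'} {η' : Spec (CommRingCat.of Ω) ⟶ Y'}
    {z : Spec (CommRingCat.of Ω) ⟶ X} {η : Spec (CommRingCat.of Ω) ⟶ Y} (hξ' : ξ' ≫ f' = η') (hz : ξ' ≫ g' = z)
    (hη : η' ≫ g = η) (hzη : z ≫ f = η) {V : Y.Etale} (v : (Scheme.pointSmallEtale η).fiber.obj V) :
    (Scheme.pointSmallEtale ξ').fiber.map (EtFound.bcSquare w V) (EtFound.liftPt f' hξ' (EtFound.liftPt g hη v)) =
      EtFound.liftPt g' hz (EtFound.liftPt f hzη v) := by
  subst hη hz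
  exact EtFound.bcSquare_fiber w hξ' hzη v

theorem θ_swap {Ω : Type u} [Field Ω] [IsSepClosed Ω] (w : g' ≫ f = f' ≫ g) (G : EtCoh.Ab X')
    {ξ' : Spec (CommRingCat.of Ω) ⟶ X'} {η' : Spec (CommRingCat.of Ω) ⟶ Y'}
    {z : Spec (CommRingCat.of Ω) ⟶ X} {η : Spec (CommRingCat.of Ω) ⟶ Y} (hξ' : ξ' ≫ f' = η') (hz : ξ' ≫ g' = z)
    (hη : η' ≫ g = η) (hzη : z ≫ f = η)
    (c : (EtCoh.stalk η).obj ((EtCoh.push f).obj ((EtCoh.push g').obj G))) :
    (EtFound.pushStalkAt f' hξ').app G (θ ((swap w).app G) hη c) =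
      (EtFound.pushStalkAt g' hz).app G ((EtFound.pushStalkAt f hzη).app ((EtCoh.push g').obj G) c) := by
  obtain ⟨V, v, s, rfl⟩ := (Scheme.pointSmallEtale η).toPresheafFiber_jointly_surjective c
  refine (congrArg ((EtFound.pushStalkAt f' hξ').app G) (θ_germ ((swap w).app G) hη V v s)).trans ?_
  refine (EtFound.pushStalkAt_germ_apply f' hξ' G _ _).trans ?_
  refine Eq.trans ?_ (congrArg ((EtFound.pushStalkAt g' hz).app G)
    (EtFound.pushStalkAt_germ_apply f hzη ((EtCoh.push g').obj G) v s)).symm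
  refine Eq.trans ?_ (EtFound.pushStalkAt_germ_apply g' hz G _ s).symm
  refine Eq.trans (congrArg (fun q => (Scheme.pointSmallEtale ξ').toPresheafFiber _
    (EtFound.liftPt f' hξ' (EtFound.liftPt g hη v)) G.obj q) (ConcreteCategory.congr_hom (swap_app w G V) s)) ?_
  refine ((Scheme.pointSmallEtale ξ').toPresheafFiber_w_apply (EtFound.bcSquare w V) _ G.obj s).trans ?_
  rw [bcSquare_lift w hξ' hz hη hzη v]
  rfl

variable {F : EtCoh.Ab X} {G : EtCoh.Ab X'}

/-- the comparison of direct images -/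
noncomputable def pushBC (w : g' ≫ f = f' ≫ g) (a : F ⟶ (EtCoh.push g').obj G) :
    (EtCoh.push f).obj F ⟶ (EtCoh.push g).obj ((EtCoh.push f').obj G) :=
  (EtCoh.push f).map a ≫ (swap w).app G

theorem θ_pushBC {Ω : Type u} [Field Ω] [IsSepClosed Ω] (w : g' ≫ f = f' ≫ g) (a : F ⟶ (EtCoh.push g').obj G)
    {ξ' : Spec (CommRingCat.of Ω) ⟶ X'} {η' : Spec (CommRingCat.of Ω) ⟶ Y'}
    {z : Spec (CommRingCat.of Ω) ⟶ X} {η : Spec (CommRingCat.of Ω) ⟶ Y} (hξ' : ξ' ≫ f' = η') (hz : ξ' ≫ g' = z)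
    (hη : η' ≫ g = η) (hzη : z ≫ f = η) (c : (EtCoh.stalk η).obj ((EtCoh.push f).obj F)) :
    (EtFound.pushStalkAt f' hξ').app G (θ (pushBC w a) hη c) = θ a hz ((EtFound.pushStalkAt f hzη).app F c) := by
  have e : θ (pushBC w a) hη c = θ ((swap w).app G) hη ((EtCoh.stalk η).map ((EtCoh.push f).map a) c) := by
    rw [θ, pushBC, Functor.map_comp, Category.assoc]
    rfl
  rw [e]
  refine (θ_swap w G hξ' hz hη hzη _).trans ?_
  exact congrArg ((EtFound.pushStalkAt g' hz).app G)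
    (ConcreteCategory.congr_hom ((EtFound.pushStalkAt f hzη).naturality a) c)

variable {Uc : Scheme.{u}}

/-- the comparison for inverse images along two sides of a square -/
noncomputable def adjLift {Uc' : Scheme.{u}} {r : Uc ⟶ X} {r' : Uc' ⟶ X'} {gc : Uc' ⟶ Uc}
    (w : r' ≫ g' = gc ≫ r) (a : F ⟶ (EtCoh.push g').obj G) :
    (EtCoh.pull r).obj F ⟶ (EtCoh.push gc).obj ((EtCoh.pull r').obj G) :=
  ((EtCoh.pullPushAdj r).homEquiv _ _).symm
    (a ≫ pushBC w ((EtCoh.pullPushAdj r').unit.app G))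

theorem θ_adjLift {Uc' : Scheme.{u}} {r : Uc ⟶ X} {r' : Uc' ⟶ X'} {gc : Uc' ⟶ Uc}
    (w : r' ≫ g' = gc ≫ r) (a : F ⟶ (EtCoh.push g').obj G) {Ω : Type u} [Field Ω] [IsSepClosed Ω]
    {ζ' : Spec (CommRingCat.of Ω) ⟶ Uc'} {ζ : Spec (CommRingCat.of Ω) ⟶ Uc}
    {z' : Spec (CommRingCat.of Ω) ⟶ X'} {z : Spec (CommRingCat.of Ω) ⟶ X}
    (h₁ : ζ' ≫ r' = z') (h₂ : z' ≫ g' = z) (h₃ : ζ' ≫ gc = ζ) (h₄ : ζ ≫ r = z) (A : (EtCoh.stalk z).obj F) :
    θ (adjLift w a) h₃ (θ ((EtCoh.pullPushAdj r).unit.app F) h₄ A) =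
      θ ((EtCoh.pullPushAdj r').unit.app G) h₁ (θ a h₂ A) := by
  let a₂ := a ≫ pushBC w ((EtCoh.pullPushAdj r').unit.app G)
  have e : θ a₂ h₄ A = (EtCoh.stalk ζ).map (adjLift w a) (θ ((EtCoh.pullPushAdj r).unit.app F) h₄ A) :=
    ConcreteCategory.congr_hom (θ_eq_unit a₂ h₄) A
  refine (congrArg ((EtFound.pushStalkAt gc h₃).app ((EtCoh.pull r').obj G)) e.symm).trans ?_
  have e2 : θ a₂ h₄ A = θ (pushBC w ((EtCoh.pullPushAdj r').unit.app G)) h₄ ((EtCoh.stalk z).map a A) := by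
    rw [θ, Functor.map_comp, Category.assoc]
    rfl
  rw [e2]
  refine (θ_pushBC w ((EtCoh.pullPushAdj r').unit.app G) h₃ h₁ h₄ h₂ _).trans ?_
  rfl

theorem pd_adjLift {Uc' : Scheme.{u}} {r : Uc ⟶ X} {r' : Uc' ⟶ X'} {gc : Uc' ⟶ Uc}
    (w : r' ≫ g' = gc ≫ r) {a : F ⟶ (EtCoh.push g').obj G} (ha : PD a) : PD (adjLift w a) := fun Ω _ _ ζ' => by
  have h₄ : (ζ' ≫ gc) ≫ r = (ζ' ≫ r') ≫ g' := by rw [Category.assoc, Category.assoc, w]
  refine (Function.Bijective.of_comp_iff _ ((pd_unit r F).bijective h₄)).1 ?_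
  have e : θ (adjLift w a) (z' := ζ') rfl ∘ θ ((EtCoh.pullPushAdj r).unit.app F) h₄ =
      θ ((EtCoh.pullPushAdj r').unit.app G) (z' := ζ') rfl ∘ θ a (z' := ζ' ≫ r') rfl :=
    funext fun A => θ_adjLift w a rfl rfl rfl h₄ A
  rw [e]
  exact ((pd_unit r' G).bijective rfl).comp (ha Ω (ζ' ≫ r'))

end swap

section shriek

variable {X Y X' Y' : Scheme.{u}} {f : X ⟶ Y} {g : Y' ⟶ Y} {f' : X' ⟶ Y'} {g' : X' ⟶ X}
  {F : EtCoh.Ab X} {G : EtCoh.Ab X'}

theorem sectSupp_push_subset (a : F ⟶ (EtCoh.push g').obj G) (U : X.Etale) (s : EtCoh.sect F U) :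
    EtShriek.sectSupp G ((EtCoh.bc g').obj U) (a.hom.app (op U) s) ⊆
      ⇑(EtShriek.prV g' U) ⁻¹' EtShriek.sectSupp F U s := by
  intro y hy
  by_contra h
  obtain ⟨W, m, w, hw, h0⟩ := notMem_sectSupp.1 h
  obtain ⟨y', hy', -⟩ := Scheme.exists_preimage_of_isPullback (EtCoh.isPullback_bc_map g' m) y w hw.symm
  refine hy _ ((EtCoh.bc g').map m) ⟨y', hy'⟩ ?_
  exact (NatTrans.naturality_apply a.hom m.op s).symm.trans
    ((congrArg (a.hom.app (op W)) h0).trans (map_zero _))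

/-- properness of a closed subset is stable under base change -/
theorem isProperOver_baseChange {A B A' B' : Scheme.{u}} {m : A' ⟶ A} {p' : A' ⟶ B'} {p : A ⟶ B} {g : B' ⟶ B}
    (H : IsPullback m p' p g) {Z : Set A} (hZ : ClSub.IsProperOver p Z) {C : Set A'} (hC : IsClosed C)
    (h : C ⊆ ⇑m ⁻¹' Z) : ClSub.IsProperOver p' C := by
  obtain ⟨hc, hP⟩ := hZ
  let i := (Scheme.IdealSheafData.vanishingIdeal ⟨Z, hc⟩).subschemeι
  have : IsProper (i ≫ p) := hP
  have : IsProper (pullback.snd i m ≫ p') :=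
    MorphismProperty.of_isPullback ((IsPullback.of_hasPullback i m).paste_vert H) inferInstance
  refine QCoh.isProperOver_of_subset (f := p') (pullback.snd i m) hC fun y hy => ?_
  obtain ⟨x, hx⟩ := (QCoh.range_vanishing hc).ge (h hy)
  obtain ⟨w, -, hw⟩ := Scheme.exists_preimage_of_isPullback (IsPullback.of_hasPullback i m) x y hx
  exact ⟨w, hw⟩

theorem isPullback_bcSquare (H : IsPullback g' f' f g) (V : Y.Etale) :
    IsPullback ((EtFound.bcSquare H.w V).left ≫ EtShriek.prV g' ((EtCoh.bc f).obj V))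
      (EtShriek.prV f' ((EtCoh.bc g).obj V)) (EtShriek.prV f V) (EtShriek.prV g V) := by
  have h1 : IsPullback (pullback.snd (pullback.snd V.hom g) f' ≫ g')
      (pullback.fst (pullback.snd V.hom g) f') f (pullback.snd V.hom g ≫ g) :=
    ((IsPullback.of_hasPullback (pullback.snd V.hom g) f').flip).paste_horiz H
  rw [← pullback.condition] at h1
  have e : ((EtFound.bcSquare H.w V).left ≫ EtShriek.prV g' ((EtCoh.bc f).obj V)) ≫ pullback.snd V.hom f =
      pullback.snd (pullback.snd V.hom g) f' ≫ g' := by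
    refine (Category.assoc _ _ _).trans ?_
    refine (congrArg (_ ≫ ·) pullback.condition).trans ?_
    refine (Category.assoc _ _ _).symm.trans (congrArg (· ≫ g') ?_)
    exact MorphismProperty.Over.w (EtFound.bcSquare H.w V)
  refine IsPullback.of_right ?_ ?_ (IsPullback.of_hasPullback V.hom f).flip
  · rw [e]
    exact h1
  · exact (Category.assoc _ _ _).trans (EtFound.bcSquare_fst H.w V)

variable [LocallyOfFiniteType f] [LocallyOfFiniteType f']

theorem pushBC_mem (H : IsPullback g' f' f g) (a : F ⟶ (EtCoh.push g').obj G) (V : Y.Etale)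
    (s : ((shrF f).obj F).obj.obj (op V)) :
    (pushBC H.w a).hom.app (op V) s.1 ∈ EtShriek.shriekSubgroup f' G ((EtCoh.bc g).obj V) := by
  refine AddSubgroup.subset_closure ((shriekPred_iff f' G _ _).2
    (isProperOver_baseChange (isPullback_bcSquare H V) (isProperOver_sectSupp_mem f F V s) (isClosed_sectSupp _) ?_))
  have e : (pushBC H.w a).hom.app (op V) s.1 =
      res G (EtFound.bcSquare H.w V) (a.hom.app (op ((EtCoh.bc f).obj V)) s.1) :=
    ConcreteCategory.congr_hom (swap_app H.w G V) _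
  intro y hy
  rw [e] at hy
  rw [Set.mem_preimage, Scheme.Hom.comp_apply]
  exact sectSupp_push_subset a _ s.1 (sectSupp_res_subset (EtFound.bcSquare H.w V) _ hy)

/-- the base change map -/
noncomputable def ψ (H : IsPullback g' f' f g) (a : F ⟶ (EtCoh.push g').obj G) :
    (shrF f).obj F ⟶ (EtCoh.push g).obj ((shrF f').obj G) :=
  ObjectProperty.homMk
    { app := fun V => AddCommGrpCat.ofHom
        { toFun := fun s : ((shrF f).obj F).obj.obj V => ⟨(pushBC H.w a).hom.app V s.1, pushBC_mem H a V.unop s⟩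
          map_zero' := Subtype.ext (map_zero ((pushBC H.w a).hom.app V).hom)
          map_add' := fun s t => Subtype.ext (map_add ((pushBC H.w a).hom.app V).hom s.1 t.1) }
      naturality := fun _ _ k => ConcreteCategory.hom_ext _ _ fun s => Subtype.ext
        (NatTrans.naturality_apply (pushBC H.w a).hom k s.1) }

theorem ψ_shrι (H : IsPullback g' f' f g) (a : F ⟶ (EtCoh.push g').obj G) :
    ψ H a ≫ (EtCoh.push g).map ((shrι f').app G) = (shrι f).app F ≫ pushBC H.w a :=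
  Sheaf.hom_ext (NatTrans.ext (funext fun V => ConcreteCategory.hom_ext _ _ fun _ => rfl))

variable {Ω : Type u} [Field Ω] [IsAlgClosed Ω]

theorem gz_θψ (H : IsPullback g' f' f g) (a : F ⟶ (EtCoh.push g').obj G)
    {η' : Spec (CommRingCat.of Ω) ⟶ Y'} {η : Spec (CommRingCat.of Ω) ⟶ Y} (hη : η' ≫ g = η)
    (p : (EtCoh.stalk η).obj ((shrF f).obj F)) (z' : Pts f' η') (z : Pts f η) (hz : z'.1 ≫ g' = z.1) :
    gz f' G z' (θ (ψ H a) hη p) = θ a hz (gz f F z p) := by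
  refine Eq.trans ?_ (θ_pushBC H.w a z'.2 hz hη z.2 ((EtCoh.stalk η).map ((shrι f).app F) p))
  refine congrArg ((EtFound.pushStalkAt f' z'.2).app G) ?_
  have h := ConcreteCategory.congr_hom (θ_comp (ψ H a) ((shrι f').app G) hη) p
  rw [ψ_shrι] at h
  refine h.symm.trans ?_
  rw [θ, Functor.map_comp, Category.assoc]
  rfl

theorem θψ_injective (H : IsPullback g' f' f g) {a : F ⟶ (EtCoh.push g').obj G} (ha : PD a)
    {η' : Spec (CommRingCat.of Ω) ⟶ Y'} {η : Spec (CommRingCat.of Ω) ⟶ Y} (hη : η' ≫ g = η) :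
    Function.Injective (θ (ψ H a) hη) := by
  refine (injective_iff_map_eq_zero (θ (ψ H a) hη).hom).2 fun p hp => gz_injective f F p fun z => ?_
  let l := H.lift z.1 η' (z.2.trans hη.symm)
  refine (ha.bijective (z' := l) (H.lift_fst _ _ _)).1 ?_
  rw [map_zero, ← gz_θψ H a hη p ⟨l, H.lift_snd _ _ _⟩ z (H.lift_fst _ _ _),
    show θ (ψ H a) hη p = 0 from hp, map_zero]

theorem θψ_bijective_of (H : IsPullback g' f' f g) {a : F ⟶ (EtCoh.push g').obj G} (ha : PD a)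
    {η' : Spec (CommRingCat.of Ω) ⟶ Y'} {η : Spec (CommRingCat.of Ω) ⟶ Y} (hη : η' ≫ g = η)
    (h : ∀ x : (EtCoh.stalk η').obj ((shrF f').obj G), ∃ p : (EtCoh.stalk η).obj ((shrF f).obj F),
      ∀ (z' : Pts f' η') (z : Pts f η) (hz : z'.1 ≫ g' = z.1), θ a hz (gz f F z p) = gz f' G z' x) :
    Function.Bijective (θ (ψ H a) hη) := by
  refine ⟨θψ_injective H ha hη, fun x => ?_⟩
  obtain ⟨p, hp⟩ := h x
  refine ⟨p, gz_ext f' fun z' => ?_⟩
  have hz : (z'.1 ≫ g') ≫ f = η := by rw [Category.assoc, H.w, ← Category.assoc, z'.2, hη]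
  rw [gz_θψ H a hη p z' ⟨z'.1 ≫ g', hz⟩ rfl, hp z' ⟨z'.1 ≫ g', hz⟩ rfl]

end shriek

end Groth.Agent.ShriekBC11
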